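import Groth.Prelude.Def_W4c2quivmodsheafKron
import Mathlib.LinearAlgebra.Dual.Lemmas
import Mathlib.LinearAlgebra.Dimension.Constructions
import Mathlib.LinearAlgebra.FiniteDimensional.Lemmas

/-!
# Semistability of Kronecker modules
-/

namespace Groth.Agent.KronLib

open Module

variable {K : Type*} [Field K] {V W : Type*} [AddCommGroup V] [Module K V] [FiniteDimensional K V]
  [AddCommGroup W] [Module K W] [FiniteDimensional K W] {n : ℕ} (f : Fin n → (V →ₗ[K] W))

/-- The sum map `Vⁿ → W`. -/
def sumMap : (Fin n → V) →ₗ[K] W := ∑ j, f j ∘ₗ LinearMap.proj j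

omit [FiniteDimensional K V] [FiniteDimensional K W] in
theorem sumMap_apply (v : Fin n → V) : sumMap f v = ∑ j, f j (v j) := by simp [sumMap]

omit [FiniteDimensional K V] [FiniteDimensional K W] in
theorem sumMap_single (j : Fin n) (x : V) : sumMap f (Pi.single j x) = f j x := by
  classical
  rw [sumMap_apply, Finset.sum_eq_single j (fun i _ hi => by simp [hi]) (by simp), Pi.single_eq_same]

variable {f}

omit [FiniteDimensional K V] in
theorem sumMap_surjective (h : KronMod.IsSemistable f) (hV : 0 < finrank K V) : Function.Surjective (sumMap f) := by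
  rw [← LinearMap.range_eq_top]
  by_contra hne
  have hsub : KronMod.IsSubrep f ⊤ (LinearMap.range (sumMap f)) := fun j => by
    rintro _ ⟨x, -, rfl⟩
    exact ⟨Pi.single j x, sumMap_single f j x⟩
  have hVt : (⊤ : Submodule K V) ≠ ⊥ := fun h0 => by
    rw [← finrank_top K V, h0, finrank_bot] at hV
    exact hV.false
  have h2 := h.2 _ _ hsub (fun h0 => hVt h0.1) (fun h1 => hne h1.2)
  rw [finrank_top] at h2
  have h3 : finrank K (LinearMap.range (sumMap f)) < finrank K W := Submodule.finrank_lt hne
  nlinarith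

omit [FiniteDimensional K W] in
theorem pi_injective (h : KronMod.IsSemistable f) (hW : 0 < finrank K W) : Function.Injective (LinearMap.pi f) := by
  rw [← LinearMap.ker_eq_bot]
  by_contra hne
  have hsub : KronMod.IsSubrep f (LinearMap.ker (LinearMap.pi f)) ⊥ := fun j => by
    rintro _ ⟨x, hx, rfl⟩
    exact congrFun (LinearMap.mem_ker.1 hx) j
  have hWt : (⊥ : Submodule K W) ≠ ⊤ := fun h0 => by
    rw [← finrank_top K W, ← h0, finrank_bot] at hW
    exact hW.false
  have h2 := h.2 _ _ hsub (fun h0 => hne h0.1) (fun h1 => hWt h1.2)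
  rw [finrank_bot, mul_zero] at h2
  have h3 : 0 < finrank K (LinearMap.ker (LinearMap.pi f)) := by
    rw [pos_iff_ne_zero, Ne, Submodule.finrank_eq_zero]; exact hne
  nlinarith

omit [FiniteDimensional K V] in
theorem mul_finrank_le_of_sumMap_injective (hinj : Function.Injective (sumMap f)) {V' : Submodule K V}
    {W' : Submodule K W} (hsub : KronMod.IsSubrep f V' W') [FiniteDimensional K V'] :
    n * finrank K V' ≤ finrank K W' := by
  let φ : (Fin n → V') →ₗ[K] W' :=
    (sumMap f ∘ₗ LinearMap.piMap fun _ => V'.subtype).codRestrict W' fun v => by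
      rw [LinearMap.comp_apply, sumMap_apply]
      exact Submodule.sum_mem _ fun j _ => hsub j ⟨_, (v j).2, rfl⟩
  have hφ : Function.Injective φ := fun a b hab => by
    have := hinj (congrArg Subtype.val hab)
    funext j
    exact Subtype.ext (congrFun this j)
  simpa [finrank_pi_fintype] using LinearMap.finrank_le_finrank_of_injective hφ

omit [FiniteDimensional K V] in
theorem finrank_le_mul_of_pi_injective (hinj : Function.Injective (LinearMap.pi f)) {V' : Submodule K V}
    {W' : Submodule K W} (hsub : KronMod.IsSubrep f V' W') : finrank K V' ≤ n * finrank K W' := by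
  let φ : V' →ₗ[K] (Fin n → W') := LinearMap.pi fun j => (f j ∘ₗ V'.subtype).codRestrict W' fun x => hsub j ⟨_, x.2, rfl⟩
  have hφ : Function.Injective φ := fun a b hab => by
    refine Subtype.ext (hinj (funext fun j => ?_))
    exact congrArg Subtype.val (congrFun hab j)
  simpa [finrank_pi_fintype] using LinearMap.finrank_le_finrank_of_injective hφ

theorem isSemistable_iff_sumMap (hV : 0 < finrank K V) (hW : finrank K W = n * finrank K V) :
    KronMod.IsSemistable f ↔ Function.Bijective (sumMap f) := by
  refine ⟨fun h => ?_, fun h => ⟨by omega, fun V' W' hsub _ _ => ?_⟩⟩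
  · have hs := sumMap_surjective h hV
    exact ⟨(LinearMap.injective_iff_surjective_of_finrank_eq_finrank (by simp [finrank_pi_fintype, hW])).2 hs, hs⟩
  · rw [hW, mul_assoc, mul_left_comm]
    exact Nat.mul_le_mul_left _ (mul_finrank_le_of_sumMap_injective h.1 hsub)

theorem isSemistable_iff_pi (hW : 0 < finrank K W) (hV : finrank K V = n * finrank K W) :
    KronMod.IsSemistable f ↔ Function.Bijective (LinearMap.pi f) := by
  refine ⟨fun h => ?_, fun h => ⟨by omega, fun V' W' hsub _ _ => ?_⟩⟩
  · have hi := pi_injective h hW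
    exact ⟨hi, (LinearMap.injective_iff_surjective_of_finrank_eq_finrank (by simp [finrank_pi_fintype, hV])).1 hi⟩
  · rw [hV, mul_assoc, mul_left_comm n]
    exact Nat.mul_le_mul_left _ (finrank_le_mul_of_pi_injective h.1 hsub)

omit [FiniteDimensional K V] [FiniteDimensional K W] in
theorem isSemistable_of_isStable (h : KronMod.IsStable f) : KronMod.IsSemistable f :=
  ⟨h.1, fun V' W' a b c => (h.2 V' W' a b c).le⟩

theorem subrep_dual_iff (P : ℕ → ℕ → Prop) (f : Fin n → (V →ₗ[K] W)) :
    (∀ (A : Submodule K (Dual K W)) (B : Submodule K (Dual K V)), KronMod.IsSubrep (fun j => (f j).dualMap) A B →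
        ¬ (A = ⊥ ∧ B = ⊥) → ¬ (A = ⊤ ∧ B = ⊤) → P (finrank K A) (finrank K B)) ↔
    (∀ (V' : Submodule K V) (W' : Submodule K W), KronMod.IsSubrep f V' W' →
        ¬ (V' = ⊥ ∧ W' = ⊥) → ¬ (V' = ⊤ ∧ W' = ⊤) → P (finrank K W - finrank K W') (finrank K V - finrank K V')) := by
  have hdimV : ∀ U : Submodule K V, finrank K U.dualAnnihilator = finrank K V - finrank K U := fun U => by
    have := Subspace.finrank_add_finrank_dualAnnihilator_eq U
    omega
  have hdimW : ∀ U : Submodule K W, finrank K U.dualAnnihilator = finrank K W - finrank K U := fun U => by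
    have := Subspace.finrank_add_finrank_dualAnnihilator_eq U
    omega
  have hsub : ∀ (V' : Submodule K V) (W' : Submodule K W), KronMod.IsSubrep f V' W' ↔
      KronMod.IsSubrep (fun j => (f j).dualMap) W'.dualAnnihilator V'.dualAnnihilator := by
    refine fun V' W' => ⟨fun h j => ?_, fun h j => ?_⟩
    · rintro _ ⟨φ, hφ, rfl⟩
      rw [Submodule.mem_dualAnnihilator]
      intro x hx
      exact (Submodule.mem_dualAnnihilator φ).1 hφ _ (h j ⟨x, hx, rfl⟩)
    · rintro _ ⟨x, hx, rfl⟩
      rw [← Subspace.dualAnnihilator_dualCoannihilator_eq (W := W'), Submodule.mem_dualCoannihilator]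
      intro φ hφ
      exact (Submodule.mem_dualAnnihilator _).1 (h j ⟨φ, hφ, rfl⟩) x hx
  constructor
  · intro h V' W' hs h0 h1
    rw [← hdimV, ← hdimW]
    refine h _ _ ((hsub V' W').1 hs) (fun ⟨a, b⟩ => h1 ?_) (fun ⟨a, b⟩ => h0 ?_)
    · exact ⟨by rw [← Subspace.dualAnnihilator_dualCoannihilator_eq (W := V'), b, Submodule.dualCoannihilator_bot],
        by rw [← Subspace.dualAnnihilator_dualCoannihilator_eq (W := W'), a, Submodule.dualCoannihilator_bot]⟩
    · exact ⟨by rw [← Subspace.dualAnnihilator_dualCoannihilator_eq (W := V'), b, Submodule.dualCoannihilator_top],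
        by rw [← Subspace.dualAnnihilator_dualCoannihilator_eq (W := W'), a, Submodule.dualCoannihilator_top]⟩
  · intro h A B hs h0 h1
    have hA := Subspace.dualCoannihilator_dualAnnihilator_eq (W := A)
    have hB := Subspace.dualCoannihilator_dualAnnihilator_eq (W := B)
    rw [← hA, ← hB] at h0 h1 hs ⊢
    rw [hdimV, hdimW]
    refine h _ _ ((hsub _ _).2 hs) (fun ⟨a, b⟩ => h1 ?_) (fun ⟨a, b⟩ => h0 ?_)
    · rw [a, b, Submodule.dualAnnihilator_bot, Submodule.dualAnnihilator_bot]; exact ⟨rfl, rfl⟩
    · rw [a, b, Submodule.dualAnnihilator_top, Submodule.dualAnnihilator_top]; exact ⟨rfl, rfl⟩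

theorem dual_semistable_iff (f : Fin n → (V →ₗ[K] W)) :
    (KronMod.IsSemistable f ↔ KronMod.IsSemistable (fun j => (f j).dualMap)) ∧
    (KronMod.IsStable f ↔ KronMod.IsStable (fun j => (f j).dualMap)) := by
  simp only [KronMod.IsSemistable, KronMod.IsStable, Subspace.dual_finrank_eq]
  constructor
  · refine and_congr (by omega) ?_
    rw [subrep_dual_iff (fun a b => finrank K V * a ≤ finrank K W * b) f]
    refine forall_congr' fun V' => forall_congr' fun W' => forall_congr' fun _ => forall_congr' fun _ => forall_congr' fun _ => ?_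
    have hv := Submodule.finrank_le V'
    have hw := Submodule.finrank_le W'
    obtain ⟨a, ha⟩ := Nat.le.dest hv
    obtain ⟨b, hb⟩ := Nat.le.dest hw
    rw [← ha, ← hb, Nat.add_sub_cancel_left, Nat.add_sub_cancel_left]
    constructor <;> intro h <;> nlinarith
  · refine and_congr (by omega) ?_
    rw [subrep_dual_iff (fun a b => finrank K V * a < finrank K W * b) f]
    refine forall_congr' fun V' => forall_congr' fun W' => forall_congr' fun _ => forall_congr' fun _ => forall_congr' fun _ => ?_
    have hv := Submodule.finrank_le V'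
    have hw := Submodule.finrank_le W'
    obtain ⟨a, ha⟩ := Nat.le.dest hv
    obtain ⟨b, hb⟩ := Nat.le.dest hw
    rw [← ha, ← hb, Nat.add_sub_cancel_left, Nat.add_sub_cancel_left]
    constructor <;> intro h <;> nlinarith

theorem isStable_iff_of_finrank_eq_mul (hV : 0 < finrank K V) (hW : finrank K W = n * finrank K V) :
    KronMod.IsStable f ↔ (KronMod.IsSemistable f ∧ finrank K V = 1) := by
  refine ⟨fun h => ⟨isSemistable_of_isStable h, ?_⟩, fun ⟨hs, h1⟩ => ⟨h1 ▸ by omega, fun V' W' hsub hne0 hne1 => ?_⟩⟩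
  · by_contra h1
    obtain ⟨x, hx⟩ := Module.finrank_pos_iff_exists_ne_zero.1 hV
    set W' : Submodule K W := Submodule.span K (Set.range fun j => f j x)
    have hsub : KronMod.IsSubrep f (K ∙ x) W' := fun j => by
      rw [Submodule.map_span, Set.image_singleton]
      exact Submodule.span_mono (Set.singleton_subset_iff.2 ⟨j, rfl⟩)
    have hW' : finrank K W' ≤ n := (finrank_range_le_card _).trans_eq (Fintype.card_fin n)
    have := h.2 _ _ hsub (fun h0 => hx (Submodule.span_singleton_eq_bot.1 h0.1)) (fun h2 => h1 (by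
      rw [← finrank_top K V, ← h2.1, finrank_span_singleton hx]))
    rw [finrank_span_singleton hx, hW] at this
    nlinarith
  · rw [h1, one_mul]
    rcases Nat.le_one_iff_eq_zero_or_eq_one.1 (h1 ▸ Submodule.finrank_le V') with h0 | h0
    · rw [h0, mul_zero]
      by_contra hc
      exact hne0 ⟨Submodule.finrank_eq_zero.1 h0, Submodule.finrank_eq_zero.1 (by omega)⟩
    · exfalso
      have hVt : V' = ⊤ := Submodule.eq_top_of_finrank_eq (by omega)
      refine hne1 ⟨hVt, eq_top_iff.2 fun w _ => ?_⟩
      obtain ⟨v, rfl⟩ := sumMap_surjective hs hV w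
      rw [sumMap_apply]
      exact Submodule.sum_mem _ fun j _ => hsub j ⟨v j, hVt ▸ trivial, rfl⟩

end Groth.Agent.KronLib
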